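import Cfsg.Agent.BpSpor.Inn.Base
import Cfsg.Agent.KFacts.SuzOut

/-!
# Automorphisms of odd prime order: `Suz` (helper5)
-/

set_option autoImplicit false

namespace Cfsg.Agent.BpSpor.Inn

open Cfsg

theorem suz {K : Type*} [Group K] (h : Spor.IsoSuz K) : OddInn K := by
  obtain ⟨e⟩ := h
  exact OddInn.congr e (of_index Cfsg.Agent.KFacts.SuzOut.index_eq)

end Cfsg.Agent.BpSpor.Inn
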